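import Cfsg.Agent.Lib.Dts.Defs
import Cfsg.Agent.Lib.ZStar.Main

set_option autoImplicit false
set_option linter.unusedSectionVars false

namespace CfsgLib.Dts

open Subgroup CfsgLib.Tech CfsgLib.FsU MulAction

universe u v

variable {T : Type u} {Δ : Type v} [Group T] [Finite T] [Finite Δ] [MulAction T Δ]
  {a b c : Δ} {x y z t : T} {p r : ℕ} {K : Subgroup T}

theorem Cf.cf1_center (h : Cf T Δ) (e : ∀ t : T, t * z = z * t) : z = 1 := by
  have := h.simple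
  rcases this.eq_bot_or_eq_top_of_normal (center T) inferInstance with e1 | e1
  · exact mem_bot.1 (e1 ▸ mem_center_iff.2 e)
  · exact absurd ⟨⟨fun a b => mem_center_iff.1 (e1.ge (mem_top b)) a⟩⟩ h.nab

theorem Cf.fix_of_comm (h : Cf T Δ) (hz : z ∈ Zc T a) (h1 : z ≠ 1) (e : t * z = z * t) :
    t • a = a := by
  have hle : stabilizer T a ≤ C1 z := fun s hs => mem_C1.2 (mem_Zc.1 hz s hs)
  rcases hle.eq_or_lt with e1 | e1
  · exact mem_stabilizer_iff.1 (e1.ge (mem_C1.2 e))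
  · exact absurd (h.cf1_center fun s => mem_C1.1 (((h.mx a).2 _ e1).ge (mem_top s))) h1

theorem Zc_conj (hz : z ∈ Zc T a) (t : T) : t * z * t⁻¹ ∈ Zc T (t • a) := by
  refine mem_Zc.2 fun s hs => ?_
  have := mem_Zc.1 hz (t⁻¹ * s * t) (by rw [mul_smul, mul_smul, hs, inv_smul_smul])
  calc s * (t * z * t⁻¹) = t * (t⁻¹ * s * t * z) * t⁻¹ := by group
    _ = t * z * t⁻¹ * s := by rw [this]; group

theorem Zc_aut {σ : Δ ≃ Δ} {φ : T ≃* T} (e : ∀ (t : T) (e : Δ), σ (t • e) = φ t • σ e)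
    (hz : z ∈ Zc T a) : φ z ∈ Zc T (σ a) := by
  refine mem_Zc.2 fun s hs => ?_
  obtain ⟨s, rfl⟩ := φ.surjective s
  rw [← e, σ.apply_eq_iff_eq] at hs
  rw [← map_mul, ← map_mul, mem_Zc.1 hz s hs]

theorem Cf.exists_Z (h : Cf T Δ) (a : Δ) : ∃ z ∈ Zc T a, z ≠ 1 := by
  obtain ⟨a0, x, h1, hx⟩ := h.ex
  obtain ⟨t, rfl⟩ := h.tr a0 a
  refine ⟨_, Zc_conj (mem_Zc.2 hx) t, fun e => h1 ?_⟩
  calc x = t⁻¹ * (t * x * t⁻¹) * t := by group
    _ = 1 := by rw [e]; group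

theorem Cf.exists_ne (h : Cf T Δ) (a : Δ) : ∃ b : Δ, b ≠ a := by
  by_contra! e
  obtain ⟨-, x, h1, -⟩ := h.ex
  exact h1 (h.faith x fun c => by rw [e (x • c), e c])

theorem Cf.fix_eq (h : Cf T Δ) (hz : z ∈ Zc T a) (h1 : z ≠ 1) (e : z • b = b) : b = a := by
  by_contra hne
  have key : ∀ w ∈ Zc T b, w • a = a := fun w hw => h.fix_of_comm hz h1 (mem_Zc.1 hw z e).symm
  obtain ⟨w, hw, hw1⟩ := h.exists_Z b
  refine hw1 (h.faith w fun c => ?_)
  by_cases hc : c = b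
  · rw [hc]; exact h.fix_of_comm hw hw1 rfl
  · obtain ⟨σ, φ, e1, e2, e3⟩ := h.two b c b a (Ne.symm hc) hne
    have := key _ (e1 ▸ Zc_aut e3 hw)
    rwa [← e2, ← e3, σ.apply_eq_iff_eq] at this

theorem Cf.conj_eq (h : Cf T Δ) (hz : z ∈ Zc T a) (h1 : z ≠ 1) (e : (t * z * t⁻¹) • a = a) :
    t * z * t⁻¹ = z := by
  have hne : t * z * t⁻¹ ≠ 1 := fun e => h1 (by
    calc z = t⁻¹ * (t * z * t⁻¹) * t := by group
      _ = 1 := by rw [e]; group)
  have := h.fix_eq (Zc_conj hz t) hne e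
  rw [mem_Zc.1 hz t this.symm]; group

theorem Cf.exists_x (h : Cf T Δ) (a : Δ) :
    ∃ p : ℕ, p.Prime ∧ p ≠ 2 ∧ ∃ x ∈ Zc T a, orderOf x = p := by
  obtain ⟨z, hz, h1⟩ := h.exists_Z a
  have hn : orderOf z ≠ 1 := fun e => h1 (orderOf_eq_one_iff.1 e)
  have hp := Nat.minFac_prime hn
  have ho : orderOf (z ^ (orderOf z / (orderOf z).minFac)) = (orderOf z).minFac :=
    orderOf_pow_orderOf_div (orderOf_pos z).ne' (Nat.minFac_dvd _)
  have hx := (Zc T a).pow_mem hz (orderOf z / (orderOf z).minFac)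
  refine ⟨_, hp, fun e2 => ?_, _, hx, ho⟩
  generalize z ^ (orderOf z / (orderOf z).minFac) = x at ho hx
  rw [e2] at ho
  have := h.simple
  have hx1 : x ≠ 1 := fun e => by rw [e, orderOf_one] at ho; omega
  exact CfsgLib.ZStar.not_isolated_of_simple h.nab x
    ⟨ho, fun g hg => h.conj_eq hx hx1 (h.fix_of_comm hx hx1 hg.eq.symm)⟩

end CfsgLib.Dts
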