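import Cfsg.Agent.Lib.Dts.Cf1
import Cfsg.Agent.S4252
import Cfsg.Agent.S0035

set_option autoImplicit false
set_option linter.unusedSectionVars false

namespace CfsgLib.Dts

open Subgroup CfsgLib.Tech CfsgLib.FsU MulAction

universe u v

variable {T : Type u} {Δ : Type v} [Group T] [Finite T] [Finite Δ] [MulAction T Δ]
  {a b c : Δ} {x y z t : T} {p r : ℕ} {K : Subgroup T}

/-- Frobenius' theorem for a section -/
theorem frob_ker {L D : Subgroup T} {Γ : Set Δ} (ha : a ∈ Γ) (hb : b ∈ Γ) (hab : a ≠ b)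
    (hD : D ≤ L) (inv : ∀ g ∈ L, ∀ c ∈ Γ, g • c ∈ Γ) (fix : ∀ d ∈ D, ∀ c ∈ Γ, d • c = c)
    (tr : ∀ c ∈ Γ, ∀ d ∈ Γ, ∃ g ∈ L, g • c = d)
    (two : ∀ g ∈ L, ∀ c ∈ Γ, ∀ d ∈ Γ, c ≠ d → g • c = c → g • d = d → g ∈ D)
    (nr : ∃ g ∈ L, g • a = a ∧ g ∉ D) :
    ∃ K : Subgroup T, (∀ u, u ∈ K ↔ u ∈ L ∧ (u ∈ D ∨ ∀ c ∈ Γ, u • c ≠ c)) ∧ ∃ u ∈ K, u • a = b := by
  let S : SubMulAction L Δ := ⟨Γ, fun g _ hc => inv g g.2 _ hc⟩
  let f := (MulAction.toPermHom L S).rangeRestrict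
  have fs : Function.Surjective f := MonoidHom.rangeRestrict_surjective _
  have ap : ∀ (g : L) (c : S), ((f g • c : S) : Δ) = (g : T) • (c : Δ) := fun _ _ => rfl
  have hf : ∀ g : L, f g = 1 ↔ (g : T) ∈ D := fun g => ⟨fun e => two g g.2 a ha b hb hab
      (by rw [← ap g ⟨a, ha⟩, e, one_smul]) (by rw [← ap g ⟨b, hb⟩, e, one_smul]),
    fun e => Subtype.ext (Equiv.ext fun c => Subtype.ext (fix g e c c.2))⟩
  have := Fintype.ofFinite S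
  obtain ⟨g₀, hg₀, ga, gD⟩ := nr
  obtain ⟨f1, f2⟩ := Cfsg.Agent.S4252.result (G := (MulAction.toPermHom L S).range) (Ω := S)
    (Fintype.one_lt_card_iff.2 ⟨⟨a, ha⟩, ⟨b, hb⟩, fun e => hab (congrArg Subtype.val e)⟩)
    (fun c d => by
      obtain ⟨g, hg, e⟩ := tr c c.2 d d.2
      exact ⟨f ⟨g, hg⟩, Subtype.ext e⟩)
    ⟨f ⟨g₀, hg₀⟩, fun e => gD ((hf _).1 e), ⟨a, ha⟩, Subtype.ext ga⟩
    (fun x x1 c d e1 e2 => by
      obtain ⟨g, rfl⟩ := fs x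
      exact by_contra fun n => x1 ((hf g).2 (two g g.2 c c.2 d d.2 (fun e => n (Subtype.ext e))
        (congrArg Subtype.val e1) (congrArg Subtype.val e2)))) ⟨a, ha⟩
  obtain ⟨K, k1, kn, k2⟩ := Cfsg.Agent.S0035.result _ f1
  have k : ∀ y : L, f y ∈ K ↔ ((y : T) ∈ D ∨ ∀ c ∈ Γ, (y : T) • c ≠ c) := fun y => by
    rw [← SetLike.mem_coe, k1, f2]
    exact or_congr (hf y) ⟨fun e c hc n => e ⟨c, hc⟩ (Subtype.ext n),
      fun e c n => e c c.2 (congrArg Subtype.val n)⟩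
  refine ⟨(K.comap f).map L.subtype, fun u => ⟨?_, fun e => ⟨⟨u, e.1⟩, (k _).2 e.2, rfl⟩⟩, ?_⟩
  · rintro ⟨y, hy, rfl⟩
    exact ⟨y.2, (k y).1 hy⟩
  · obtain ⟨g, hg, e⟩ := tr a ha b hb
    obtain ⟨y, hy, s, hs, e'⟩ := mem_sup_of_normal_left.1 (k2.sup_eq_top.ge (mem_top (f ⟨g, hg⟩)))
    obtain ⟨y, rfl⟩ := fs y
    refine ⟨y, ⟨y, hy, rfl⟩, ?_⟩
    rw [← e, ← ap ⟨g, hg⟩ ⟨a, ha⟩, ← e', mul_smul, mem_stabilizer_iff.1 hs]
    rfl

theorem cf2_map {σ : Δ ≃ Δ} {φ : T ≃* T} (e : ∀ (t : T) (e : Δ), σ (t • e) = φ t • σ e) (a b : Δ)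
    (t : T) : φ t ∈ D0 T (σ a) (σ b) ↔ t ∈ D0 T a b := by
  simp only [mem_D0, ← e, EmbeddingLike.apply_eq_iff_eq]

theorem cf2_norm {σ : Δ ≃ Δ} {φ : T ≃* T} (e : ∀ (t : T) (e : Δ), σ (t • e) = φ t • σ e)
    (ht : t ∈ NN (D0 T a b)) : φ t ∈ NN (D0 T (σ a) (σ b)) :=
  mem_normalizer_of_forall fun x hx => by
    obtain ⟨x, rfl⟩ := φ.surjective x
    rw [← map_inv, ← map_mul, ← map_mul, cf2_map e]
    exact conj_mem_of_mem_normalizer ht ((cf2_map e a b x).1 hx)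

theorem Cf.D0_eq (h : Cf T Δ) (hab : a ≠ b) {d : Δ} (hcd : c ≠ d)
    (e : ∀ t ∈ D0 T a b, t • c = c ∧ t • d = d) : D0 T c d = D0 T a b := by
  obtain ⟨σ, φ, rfl, rfl, k⟩ := h.two a b c d hab hcd
  refine (eq_of_le_of_card_ge (fun t ht => e t ht) (le_of_eq ?_)).symm
  rw [← card_map_of_injective (K := D0 T a b) (f := φ.toMonoidHom) φ.injective]
  congr 2
  ext t
  obtain ⟨t, rfl⟩ := φ.surjective t
  rw [cf2_map k]
  exact (mem_map_iff_mem (f := φ.toMonoidHom) φ.injective).symm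

theorem Cf.exists_ker (h : Cf T Δ) (hab : a ≠ b) :
    ∃ (r : ℕ) (K : Subgroup T), r.Prime ∧ Ker r a b K := by
  set D := D0 T a b with hD
  let Γ : Set Δ := {c | ∀ t ∈ D, t • c = c}
  have ha : a ∈ Γ := fun t ht => ht.1
  have hb : b ∈ Γ := fun t ht => ht.2
  have eq : ∀ c ∈ Γ, ∀ d ∈ Γ, c ≠ d → D0 T c d = D := fun c hc d hd n =>
    h.D0_eq hab n fun t ht => ⟨hc t ht, hd t ht⟩
  have inv : ∀ g ∈ NN D, ∀ c ∈ Γ, g • c ∈ Γ := fun g hg c hc t ht => by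
    rw [← inv_smul_eq_iff, ← mul_smul, ← mul_smul, hc _ (conj_mem_of_mem_normalizer' hg ht)]
  obtain ⟨z, hz, z1⟩ := h.exists_Z a
  have zL : z ∈ NN D := centralizer_le_normalizer _ (mem_CC.2 fun t ht => mem_Zc.1 hz t ht.1)
  have zb : z • b ≠ b := fun e => hab (h.fix_eq hz z1 e).symm
  obtain ⟨K, hK, u₁, hu₁, ua⟩ := frob_ker (L := NN D) (D := D) ha hb hab le_normalizer inv
    (fun d hd c hc => hc d hd)
    (fun c hc d hd => by
      by_cases n : c = d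
      · exact ⟨1, one_mem _, by rw [one_smul, n]⟩
      obtain ⟨σ, φ, e1, e2, k⟩ := h.two b (z • b) c d zb.symm n
      refine ⟨φ z, ?_, by rw [← e1, ← k, e2]⟩
      rw [← eq c hc d hd n, ← e1, ← e2]
      exact cf2_norm k (by rwa [eq b hb _ (inv z zL b hb) zb.symm]))
    (fun g _ c hc d hd n e1 e2 => eq c hc d hd n ▸ ⟨e1, e2⟩)
    ⟨z, zL, h.fix_of_comm hz z1 rfl, fun e => zb e.2⟩
  have free : ∀ u ∈ K, u • a = a → u ∈ D := fun u hu e =>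
    ((hK u).1 hu).2.resolve_right fun k => k a ha e
  have hn : (D.subgroupOf (NN D)).Normal := normal_in_normalizer
  let π := QuotientGroup.mk' (D.subgroupOf (NN D))
  have hπ : ∀ x : NN D, π x = 1 ↔ (x : T) ∈ D := fun x => QuotientGroup.eq_one_iff x
  have o1 : orderOf (π ⟨u₁, ((hK _).1 hu₁).1⟩) ≠ 1 := fun e =>
    hab (((hπ _).1 (orderOf_eq_one_iff.1 e)).1.symm.trans ua)
  obtain ⟨r, hr, m, hm⟩ := Nat.exists_prime_and_dvd o1
  have m0 : 0 < m := Nat.pos_of_ne_zero fun e => (orderOf_pos _).ne' (by rw [hm, e, mul_zero])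
  have u0 : u₁ ^ m ∉ D := fun e => by
    have := Nat.le_of_dvd m0 (orderOf_dvd_of_pow_eq_one (x := π ⟨u₁, ((hK _).1 hu₁).1⟩)
      (by rw [← map_pow, hπ]; exact e))
    have := hr.two_le
    nlinarith
  have ur : (u₁ ^ m) ^ r ∈ D := by
    rw [← pow_mul, mul_comm, ← hm]
    exact (hπ (⟨u₁, ((hK _).1 hu₁).1⟩ ^ _)).1 (by rw [map_pow, pow_orderOf_eq_one])
  have hu := K.pow_mem hu₁ m
  generalize u₁ ^ m = w at u0 ur hu
  refine ⟨r, K, hr, fun d hd => (hK d).2 ⟨le_normalizer hd, .inl hd⟩, fun u hu => ((hK u).1 hu).1,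
    fun g hg => mem_normalizer_of_forall fun u hu => (hK _).2 ⟨mul_mem (mul_mem hg ((hK u).1 hu).1)
      (inv_mem hg), ((hK u).1 hu).2.imp (conj_mem_of_mem_normalizer hg) fun e c hc k =>
        e _ (inv _ (inv_mem hg) c hc) (by rwa [mul_smul, mul_smul, ← eq_inv_smul_iff] at k)⟩,
    ⟨u₁, hu₁, ua⟩, free, fun u hu' => ?_⟩
  by_cases uD : u ∈ D
  · exact D.pow_mem uD r
  have n1 : a ≠ w • a := fun e => u0 (free w hu e.symm)
  have n2 : a ≠ u • a := fun e => uD (free u hu' e.symm)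
  obtain ⟨σ, φ, e1, e2, k⟩ := h.two a (w • a) a (u • a) n1 n2
  have q1 := eq a ha _ (inv w ((hK w).1 hu).1 a ha) n1
  have q2 := eq a ha _ (inv u ((hK u).1 hu').1 a ha) n2
  have md : ∀ t, φ t ∈ D ↔ t ∈ D := fun t => by
    have := cf2_map k a (w • a) t
    rwa [e1, e2, q1, q2] at this
  have wL : φ w ∈ NN D := by
    have := cf2_norm k (q1.symm ▸ ((hK w).1 hu).1 : w ∈ NN (D0 T a (w • a)))
    rwa [e1, e2, q2] at this
  have wK : φ w ∈ K := (hK _).2 ⟨wL, .inr fun c hc e => by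
    obtain ⟨c, rfl⟩ := σ.surjective c
    rw [← k] at e
    exact (((hK w).1 hu).2.resolve_left u0) c
      (fun t ht => σ.injective (by rw [k, hc _ ((md t).2 ht)])) (σ.injective e)⟩
  have q : π ⟨u, ((hK u).1 hu').1⟩ = π ⟨φ w, wL⟩ := by
    rw [← inv_mul_eq_one, ← map_inv, ← map_mul, hπ]
    refine free _ (mul_mem (inv_mem hu') wK) ?_
    change (u⁻¹ * φ w) • a = a
    rw [mul_smul, inv_smul_eq_iff, ← e2, k, e1]
  refine (hπ (⟨u, ((hK u).1 hu').1⟩ ^ r)).1 ?_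
  rw [map_pow, q, ← map_pow, hπ]
  change φ w ^ r ∈ D
  rwa [← map_pow, md]

end CfsgLib.Dts
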