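import Cfsg.Agent.Lib.Dts.Cf2
import Cfsg.Agent.Lib.FsU.Base1
import Cfsg.Agent.S0058

set_option autoImplicit false
set_option linter.unusedSectionVars false

namespace CfsgLib.Dts

open Subgroup CfsgLib.Tech CfsgLib.FsU MulAction

universe u v

variable {T : Type u} {Δ : Type v} [Group T] [Finite T] [Finite Δ] [MulAction T Δ]
  {a b c : Δ} {x y z t : T} {p r : ℕ} {K : Subgroup T}

theorem Cf.cf3_fix (h : Cf T Δ) (hz : z ∈ Zc T a) : z • a = a := by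
  by_cases h1 : z = 1
  · rw [h1, one_smul]
  · exact h.fix_of_comm hz h1 rfl

theorem Cf.cf3_comm (h : Cf T Δ) (hx : x ∈ Zc T a) (hy : y ∈ Zc T a) : x * y = y * x :=
  mem_Zc.1 hy x (h.cf3_fix hx)

/-- if `t z t⁻¹` fixes `a` then so does `t` -/
theorem Cf.cf3_conj (h : Cf T Δ) (hz : z ∈ Zc T a) (h1 : z ≠ 1) (e : (t * z * t⁻¹) • a = a) :
    t • a = a :=
  h.fix_of_comm hz h1 (mul_inv_eq_iff_eq_mul.1 (h.conj_eq hz h1 e))

theorem cf3_NN_of_CC {D : Subgroup T} (hz : z ∈ CC D) : z ∈ NN D :=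
  mem_normalizer_of_forall fun d hd => by rw [← mem_CC.1 hz d hd]; simpa using hd

theorem cf3_CC_conj {D : Subgroup T} (ht : t ∈ NN D) (hz : z ∈ CC D) : t * z * t⁻¹ ∈ CC D := by
  refine mem_CC.2 fun d hd => ?_
  have := mem_CC.1 hz _ (conj_mem_of_mem_normalizer' ht hd)
  calc d * (t * z * t⁻¹) = t * (t⁻¹ * d * t * z) * t⁻¹ := by group
    _ = t * z * t⁻¹ * d := by rw [this]; group

/-- the `r`-part of an element modulo `r`-th powers -/
theorem cf3_part (hr : r.Prime) (u : T) : ∃ j k : ℕ, (u * (u ^ r) ^ j) ^ r ^ k = 1 := by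
  obtain ⟨k, m, hm, e⟩ := Nat.exists_eq_pow_mul_and_not_dvd (orderOf_pos u).ne' r hr.ne_one
  have hc : Nat.Coprime m r := ((Nat.Prime.coprime_iff_not_dvd hr).2 hm).symm
  obtain ⟨i, -, hi⟩ := Nat.exists_mul_mod_eq_one_of_coprime hc hr.one_lt
  refine ⟨m * i / r, k, ?_⟩
  have e1 : u * (u ^ r) ^ (m * i / r) = u ^ (m * i) := by
    conv_rhs => rw [← Nat.mod_add_div (m * i) r, hi, pow_add, pow_one, pow_mul]
  rw [e1, ← pow_mul, show m * i * r ^ k = r ^ k * m * i by ring, ← e, pow_mul, pow_orderOf_eq_one,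
    one_pow]

theorem Cf.line_of_ker (h : Cf T Δ) (hr : r.Prime) (hK : Ker r a b K) :
    ∃ P : Subgroup T, IsPGroup r P ∧ Zc T a ≤ NN P ∧ ∃ u ∈ P, u • a = b := by
  have hZC : Zc T a ≤ CC (D0 T a b) := fun z hz => mem_CC.2 fun d hd => mem_Zc.1 hz d hd.1
  have hZN : Zc T a ≤ NN (D0 T a b) := fun z hz => cf3_NN_of_CC (hZC hz)
  obtain ⟨x, hx, h1⟩ := h.exists_Z a
  obtain ⟨c, hc, hcb⟩ := hK.tr
  obtain ⟨w, hw, γ, hγ, e⟩ := surj (a := x) hK.le hK.nm (hK.nmK (hZN hx)) (hZN hx) (fun u hu hd => by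
    refine hK.free u hu (h.cf3_conj hx h1 ?_)
    have e1 : u * x * u⁻¹ = x * (x⁻¹ * u * x * u⁻¹) := by group
    rw [e1, mul_smul, hd.1, h.cf3_fix hx]) hc
  have huK : x⁻¹ * w * x * w⁻¹ ∈ K :=
    K.mul_mem (conj_mem_of_mem_normalizer' (hK.nmK (hZN hx)) hw) (K.inv_mem hw)
  have huC : x⁻¹ * w * x * w⁻¹ ∈ CC (D0 T a b) := by
    have := (CC (D0 T a b)).mul_mem ((CC _).inv_mem (hZC hx)) (cf3_CC_conj (hK.nm hw) (hZC hx))
    simpa [mul_assoc] using this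
  have hub : (x⁻¹ * w * x * w⁻¹) • a = b := by rw [← hcb, e, mul_smul _ γ, hγ.1]
  generalize x⁻¹ * w * x * w⁻¹ = u at huK huC hub
  obtain ⟨j, k, hjk⟩ := cf3_part hr u
  let S : Set T := {g | g ∈ K ⊓ CC (D0 T a b) ∧ ∃ i : ℕ, g ^ r ^ i = 1}
  have hle : closure S ≤ K ⊓ CC (D0 T a b) := (closure_le _).2 fun g hg => hg.1
  refine ⟨closure S, pg_of_gen (N := D0 T a b) hr (fun n hn k hk => mem_CC.1 (hle hk).2 n hn)
    (fun k hk => ⟨1, by rw [pow_one]; exact hK.pow k (hle hk).1⟩)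
    (closure_mono fun g hg => ⟨subset_closure hg, hg.2⟩), fun z hz => ?_,
    u * (u ^ r) ^ j, subset_closure ⟨?_, k, hjk⟩, ?_⟩
  · refine mem_normalizer_of_cj_le ?_
    rw [cj, MonoidHom.map_closure, closure_le]
    rintro _ ⟨g, ⟨hg, i, hi⟩, rfl⟩
    refine subset_closure ⟨⟨conj_mem_of_mem_normalizer (hK.nmK (hZN hz)) hg.1,
      cf3_CC_conj (hZN hz) hg.2⟩, i, ?_⟩
    rw [← map_pow, hi, map_one]
  · have hu : u ∈ K ⊓ CC (D0 T a b) := ⟨huK, huC⟩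
    exact mul_mem hu (pow_mem (pow_mem hu r) j)
  · rw [mul_smul, ((D0 T a b).pow_mem (hK.pow u huK) j).1, hub]

theorem Cf.exists_line (h : Cf T Δ) : ∃ r : ℕ, r.Prime ∧ ∀ a b : Δ, a ≠ b →
    ∃ P : Subgroup T, IsPGroup r P ∧ Zc T a ≤ NN P ∧ ∃ u ∈ P, u • a = b := by
  obtain ⟨a0, -⟩ := h.ex
  obtain ⟨b0, hb0⟩ := h.exists_ne a0
  obtain ⟨r, K, hr, hK⟩ := h.exists_ker hb0.symm
  obtain ⟨P, hP, hn, u, hu, e⟩ := h.line_of_ker hr hK
  refine ⟨r, hr, fun a b hab => ?_⟩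
  obtain ⟨σ, φ, rfl, rfl, e3⟩ := h.two a0 b0 a b hb0.symm hab
  refine ⟨P.map φ.toMonoidHom, hP.map _, fun z hz => ?_, φ u, mem_map_of_mem _ hu, by rw [← e3, e]⟩
  have e4 : ∀ (t : T) (c : Δ), σ.symm (t • c) = φ.symm t • σ.symm c := fun t c => by
    apply σ.injective
    rw [e3, φ.apply_symm_apply, σ.apply_symm_apply, σ.apply_symm_apply]
  have h1 := Zc_aut e4 hz
  rw [σ.symm_apply_apply] at h1
  refine mem_normalizer_of_forall ?_
  rintro _ ⟨g, hg, rfl⟩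
  exact ⟨_, conj_mem_of_mem_normalizer (hn h1) hg, by simp⟩

theorem Cf.prime_ne (h : Cf T Δ) (hr : r.Prime) (hab : a ≠ b) {P : Subgroup T} (hP : IsPGroup r P)
    (hn : Zc T a ≤ NN P) (tr : ∃ u ∈ P, u • a = b) (hx : x ∈ Zc T a) (ho : orderOf x = p)
    (hp : p.Prime) : r ≠ p := by
  rintro rfl
  obtain ⟨u, hu, e⟩ := tr
  have h1 : x ≠ 1 := fun e => by rw [e, orderOf_one] at ho; exact hp.ne_one ho.symm
  have hlt : P ⊓ stabilizer T a < P :=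
    lt_of_le_of_ne inf_le_left fun e1 => hab ((e1.ge hu).2.symm.trans e)
  obtain ⟨v, hv, hv', -, hb⟩ := fix_quot (P := zpowers x) hr hP
    (isPGroup_zpowers_of_pow (k := 1) (by rw [pow_one, ← ho, pow_orderOf_eq_one])) hlt
    (zpowers_le.2 (hn hx)) (zpowers_le.2 (cf3_NN_of_CC (mem_CC.2 fun d hd => mem_Zc.1 hx d hd.2)))
  refine hv' ⟨hv, h.cf3_conj hx h1 ?_⟩
  have e1 : v * x * v⁻¹ = br v x * x := (inv_mul_cancel_right _ _).symm
  rw [e1, mul_smul, h.cf3_fix hx]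
  exact (hb x (mem_zpowers x)).2

theorem Cf.mem_zpowers (h : Cf T Δ) (hp : p.Prime) (hx : x ∈ Zc T a) (ho : orderOf x = p)
    (hy : y ∈ Zc T a) (e : y ^ p = 1) : y ∈ zpowers x := by
  let E : Subgroup T :=
    { carrier := {g | g ∈ Zc T a ∧ g ^ p = 1}
      one_mem' := ⟨one_mem _, one_pow _⟩
      mul_mem' := fun {g k} hg hk => ⟨mul_mem hg.1 hk.1, by
        rw [Commute.mul_pow (h.cf3_comm hg.1 hk.1), hg.2, hk.2, one_mul]⟩
      inv_mem' := fun {g} hg => ⟨inv_mem hg.1, by rw [inv_pow, hg.2, inv_one]⟩ }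
  have hxE : x ∈ E := ⟨hx, by rw [← ho, pow_orderOf_eq_one]⟩
  have hyE : y ∈ E := ⟨hy, e⟩
  by_cases hc : IsCyclic E
  · have hle : zpowers x ≤ E := zpowers_le.2 hxE
    have hcard : Nat.card E ≤ Nat.card (zpowers x) := by
      obtain ⟨g, hg⟩ := hc.exists_ofOrder_eq_natCard
      rw [Nat.card_zpowers, ho, ← hg]
      exact Nat.le_of_dvd hp.pos (orderOf_dvd_of_pow_eq_one (Subtype.ext g.2.2))
    exact (eq_of_le_of_card_ge hle hcard).ge hyE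
  · exfalso
    obtain ⟨r, hr, hl⟩ := h.exists_line
    obtain ⟨b, hb⟩ := h.exists_ne a
    obtain ⟨P, hP, hn, u, hu, e1⟩ := hl a b hb.symm
    have hne := h.prime_ne hr hb.symm hP hn ⟨u, hu, e1⟩ hx ho hp
    have : Fact p.Prime := ⟨hp⟩
    have : Fact r.Prime := ⟨hr⟩
    have : IsMulCommutative E := ⟨⟨fun g k => Subtype.ext (h.cf3_comm g.2.1 k.2.1)⟩⟩
    have hE : IsPGroup p E := isPGroup_iff_mem.2 fun g hg => ⟨1, by rw [pow_one]; exact hg.2⟩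
    have key := Cfsg.Agent.S0058.result E P hc (fun g hg => hn hg.1)
      (IsPGroup.coprime_card_of_ne p r hne.symm E P hE hP)
    have hle : P ≤ stabilizer T a := by
      rw [← key]
      refine iSup₂_le fun g hg v hv => ?_
      exact h.fix_of_comm hg.1.1 hg.2 (mem_C1.1 hv.2)
    exact hb (e1.symm.trans (hle hu))

end CfsgLib.Dts
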