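import Cfsg.Agent.Lib.Dts.Cf3
import Cfsg.Agent.Lib.FsU.Main

set_option autoImplicit false
set_option linter.unusedSectionVars false

namespace CfsgLib.Dts

open Subgroup CfsgLib.Tech CfsgLib.FsU MulAction

universe u v

variable {T : Type u} {Δ : Type v} [Group T] [Finite T] [Finite Δ] [MulAction T Δ]
  {a b c : Δ} {x y z t : T} {p r : ℕ} {K : Subgroup T}

theorem cf4_eq (hx : x ∈ Zc T a) {s : T} (e : s • a = t • a) : s * x * s⁻¹ = t * x * t⁻¹ := by
  have := mem_Zc.1 hx (t⁻¹ * s) (by rw [mul_smul, e, inv_smul_smul])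
  calc s * x * s⁻¹ = t * (t⁻¹ * s * x) * s⁻¹ := by group
    _ = t * x * t⁻¹ := by rw [this]; group

theorem cf4_bot (x : T) : RR x x ≤ ⊥ :=
  RR_le (mem_normalizer_of_forall fun g hg => by rw [mem_bot.1 hg]; simp) (by simp)

/-- `r`-elements of `R ⊔ ⟨x⟩` lie in `R` -/
theorem cf4_mem (hp : p.Prime) (hr : r.Prime) (hne : r ≠ p) (hx : x ^ p = 1) {R : Subgroup T}
    (hn : x ∈ NN R) {g : T} (hg : g ∈ R ⊔ zpowers x) {i : ℕ} (e : g ^ r ^ i = 1) : g ∈ R := by
  obtain ⟨n, hn', k, rfl⟩ := ba_mem_sup hn hg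
  have h1 := ba_pow ((NN R).pow_mem hn k) hn' p
  rw [← pow_mul x, mul_comm k p, pow_mul, hx, one_pow, inv_one, mul_one] at h1
  have hc : (orderOf (n * x ^ k)).Coprime p :=
    Nat.Coprime.coprime_dvd_left (orderOf_dvd_of_pow_eq_one e)
      (Nat.Coprime.pow_left i ((Nat.coprime_primes hr hp).2 hne))
  obtain ⟨m, hm⟩ := exists_pow_eq_self_of_coprime hc.symm
  rw [← hm]
  exact R.pow_mem h1 m

theorem Cf.false (h : Cf T Δ) : False := by
  obtain ⟨a, -⟩ := h.ex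
  obtain ⟨p, hp, hp2, x, hx, ho⟩ := h.exists_x a
  obtain ⟨r, hr, hl⟩ := h.exists_line
  obtain ⟨b, hb⟩ := h.exists_ne a
  have h1 : x ≠ 1 := fun e => by rw [e, orderOf_one] at ho; exact hp.ne_one ho.symm
  have hne : r ≠ p := by
    obtain ⟨P, hP, hn, hu⟩ := hl a b hb.symm
    exact h.prime_ne hr hb.symm hP hn hu hx ho hp
  let X : Set T := {y | ∃ t, y = t * x * t⁻¹}
  have hF : FS p r X := by
    refine ⟨hp, hp2, hr, hne, ?_, ?_, ?_⟩
    · rintro _ ⟨t, rfl⟩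
      rw [orderOf_conj_eq, ho]
    · rintro _ ⟨t, rfl⟩ g
      exact ⟨g * t, by group⟩
    · rintro _ ⟨t, rfl⟩ _ ⟨s, rfl⟩
      by_cases e : s • a = t • a
      · rw [cf4_eq hx e]
        exact IsPGroup.of_bot.to_le (cf4_bot _)
      · obtain ⟨P, hP, hn, u, hu, e1⟩ := hl (t • a) (s • a) (Ne.symm e)
        have hx1 := hn (Zc_conj hx t)
        refine hP.to_le (RR_le hx1 ?_)
        rw [← cf4_eq (s := u * t) (t := s) hx (by rw [mul_smul, e1])]
        have := P.mul_mem (conj_mem_of_mem_normalizer' hx1 hu) (P.inv_mem hu)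
        convert this using 1
        group
  have ht : (∀ x ∈ X, ∀ y ∈ X, Ab (RR x y)) ∨ ∀ x ∈ X, ∀ y ∈ X, Ab (RR x y) → x = y := by
    by_cases hh : ∀ x ∈ X, ∀ y ∈ X, Ab (RR x y) → x = y
    · exact .inr hh
    left
    push Not at hh
    obtain ⟨x1, hx1, y1, hy1, hab, hxy⟩ := hh
    intro x' hx' y' hy'
    by_cases e : x' = y'
    · intro g hg k hk
      rw [e] at hg
      rw [mem_bot.1 (cf4_bot _ hg), one_mul, mul_one]
    have o1 := hF.ord _ hx1
    have o2 := hF.ord _ hy1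
    have q1 := hF.pow_eq_one hx'
    have q2 := hF.pow_eq_one hy'
    have q3 := hF.pow_eq_one hx1
    have hpg := hF.pg _ hx' _ hy'
    obtain ⟨t1, rfl⟩ := hx1
    obtain ⟨s1, rfl⟩ := hy1
    obtain ⟨t, rfl⟩ := hx'
    obtain ⟨s, rfl⟩ := hy'
    obtain ⟨σ, φ, e1, e2, e3⟩ := h.two (t • a) (s • a) (t1 • a) (s1 • a)
      (fun e' => e (cf4_eq hx e')) (fun e' => hxy (cf4_eq hx e'))
    have m1 := h.mem_zpowers hp (Zc_conj hx t1) o1 (e1 ▸ Zc_aut e3 (Zc_conj hx t))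
      (by rw [← map_pow, q1, map_one])
    have m2 := h.mem_zpowers hp (Zc_conj hx s1) o2 (e2 ▸ Zc_aut e3 (Zc_conj hx s))
      (by rw [← map_pow, q2, map_one])
    generalize t1 * x * t1⁻¹ = x1 at *
    generalize s1 * x * s1⁻¹ = y1 at *
    generalize t * x * t⁻¹ = x' at *
    generalize s * x * s⁻¹ = y' at *
    have n1 : φ x' ∈ RR x1 y1 ⊔ zpowers x1 := mem_sup_right m1
    have n2 : φ y' ∈ RR x1 y1 ⊔ zpowers x1 := by
      refine zpowers_le.2 ?_ m2
      have := mul_mem (mem_sup_right (Subgroup.mem_zpowers x1) : x1 ∈ RR x1 y1 ⊔ zpowers x1)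
        (mem_sup_left (mem_RR x1 y1))
      simpa using this
    have hle : ∀ g ∈ RR x' y', φ g ∈ RR x1 y1 := by
      intro g hg
      obtain ⟨i, hi⟩ := isPGroup_iff_mem.1 hpg g hg
      have k1 : φ g ∈ (RR x' y').map φ.toMonoidHom := mem_map_of_mem _ hg
      rw [map_RR] at k1
      exact cf4_mem hp hr hne q3 (RR_norm x1 y1)
        (RR_le (le_normalizer n1) (mul_mem (inv_mem n1) n2) k1) (i := i)
        (by rw [← map_pow, hi, map_one])
    intro g hg k hk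
    apply φ.injective
    rw [map_mul, map_mul, hab _ (hle g hg) _ (hle k hk)]
  have hQ := main hF ht
  have := h.simple
  rcases this.eq_bot_or_eq_top_of_normal _ hF.QQ_top_normal with e | e
  · obtain ⟨t, rfl⟩ := h.tr a b
    have k1 := mem_QQ (X := X) (H := ⊤) ⟨1, rfl⟩ ⟨t, rfl⟩ (mem_top _) (mem_top _)
    rw [e, mem_bot, inv_mul_eq_one, one_mul, inv_one, mul_one] at k1
    exact hb (h.fix_of_comm hx h1 (mul_inv_eq_iff_eq_mul.1 k1.symm))
  · rw [e] at hQ
    have : Fact r.Prime := ⟨hr⟩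
    have hT : IsPGroup r T := hQ.of_equiv topEquiv
    have := hT.center_nontrivial
    obtain ⟨z, hz⟩ := _root_.exists_ne (1 : center T)
    exact hz (Subtype.ext (h.cf1_center (mem_center_iff.1 z.2)))

end CfsgLib.Dts
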