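import Cfsg.Agent.Lib.Dts.Cf4
import Cfsg.Agent.S0700

set_option autoImplicit false
set_option linter.unusedSectionVars false

namespace CfsgLib.Dts

open Subgroup CfsgLib.Tech CfsgLib.FsU MulAction

universe u v

variable {G : Type u} {Ω : Type v} [Group G] [Finite G] [Finite Ω] [MulAction G Ω]
  {H D N M R : Subgroup G} {Δ : Set Ω} {α β : Ω}

theorem cor_prim {L T Γ : Type*} [Group L] [Group T] [Finite Γ] [MulAction L Γ] [MulAction T Γ]
    (θ : T →* L) (hθ : ∀ (t : T) (a : Γ), t • a = θ t • a) (hn : θ.range.Normal)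
    (two : ∀ a b c d : Γ, a ≠ b → c ≠ d → ∃ g : L, g • a = c ∧ g • b = d)
    (hs : IsSimpleGroup T) (nab : ¬ IsMulCommutative T)
    (faith : ∀ t : T, (∀ a : Γ, t • a = a) → t = 1) : IsPreprimitive T Γ := by
  classical
  have : Fintype Γ := Fintype.ofFinite Γ
  let ρ := (toPermHom L Γ).rangeRestrict
  have hρ : ∀ (g : L) (a : Γ), ρ g • a = g • a := fun _ _ => rfl
  have hsur : Function.Surjective ρ := MonoidHom.rangeRestrict_surjective _
  let ψ := ρ.comp θ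
  have hψ : Function.Injective ψ := (injective_iff_map_eq_one _).2 fun t ht =>
    faith t fun a => by
      rw [hθ, ← hρ]
      change ψ t • a = a
      rw [ht, one_smul]
  have hN : ψ.range.Normal := by
    rw [MonoidHom.range_comp]; exact hn.map ρ hsur
  have h2 : IsMultiplyPretransitive (toPermHom L Γ).range Γ 2 :=
    is_two_pretransitive_iff.2 fun {a b c d} hab hcd => by
      obtain ⟨g, h1, h2⟩ := two a b c d hab hcd
      exact ⟨ρ g, h1, h2⟩
  have hne : ψ.range ≠ ⊥ := by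
    intro e
    obtain ⟨t, ht⟩ := exists_ne (1 : T)
    exact ht (hψ (by rw [map_one]; exact mem_bot.1 (e.le ⟨t, rfl⟩)))
  rcases Cfsg.Agent.S0700.result _ h2 ψ.range hne (fun M hM hle => by
    rcases (hM.comap ψ).eq_bot_or_eq_top with e | e
    · left
      rw [← map_comap_eq_self hle, e, Subgroup.map_bot]
    · right
      refine le_antisymm hle ?_
      rintro _ ⟨t, rfl⟩
      exact e.ge (mem_top t)) with ⟨h3, -⟩ | ⟨-, h3⟩
  · refine (nab ⟨⟨fun a b => hψ ?_⟩⟩).elim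
    rw [map_mul, map_mul]
    exact congrArg Subtype.val (h3.1.1 ⟨ψ a, a, rfl⟩ ⟨ψ b, b, rfl⟩)
  · let f : Γ →ₑ[ψ.rangeRestrict] Γ := ⟨id, fun t a => hθ t a⟩
    exact (isPreprimitive_congr (f := f) ψ.rangeRestrict_surjective Function.bijective_id).2 h3

theorem Two.tr (h : Two H Δ) (hD : D ≤ H) (hn : H ≤ NN D) (mv : Mv D Δ) {a b : Ω} (ha : a ∈ Δ)
    (hb : b ∈ Δ) : ∃ d ∈ D, d • a = b := by
  obtain ⟨d, hd, c, hc, hne⟩ := mv
  by_cases hab : a = b
  · exact ⟨1, one_mem _, by rw [one_smul, hab]⟩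
  obtain ⟨g, hg, e1, e2⟩ := h.two c hc (d • c) (h.inv d (hD hd) c hc) a ha b hb hne.symm hab
  refine ⟨g * d * g⁻¹, conj_mem_of_mem_normalizer (hn hg) hd, ?_⟩
  rw [← e1, ← e2, mul_smul, mul_smul, inv_smul_smul]

theorem Two.core (h : Two H Δ) (hD : D ≤ H) (hn : H ≤ NN D) (hs : IsSimpleGroup D)
    (nab : ¬ IsMulCommutative D) (mv : Mv D Δ) {b : Ω} (hb : b ∈ Δ) {x : G} (hx : x ∈ D)
    (h1 : x ≠ 1) (e : ∀ t ∈ D, t • b = b → t * x = x * t) : False := by
  let Γ : SubMulAction H Ω := ⟨Δ, fun g _ ha => h.inv g g.2 _ ha⟩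
  letI : MulAction D Γ := MulAction.compHom Γ (inclusion hD)
  have hco : ∀ (t : D) (a : Γ), ((t • a : Γ) : Ω) = (t : G) • (a : Ω) := fun _ _ => rfl
  have hco' : ∀ (t : H) (a : Γ), ((t • a : Γ) : Ω) = (t : G) • (a : Ω) := fun _ _ => rfl
  have faith : ∀ t : D, (∀ a : Γ, t • a = a) → t = 1 := by
    intro t ht
    rcases (inferInstance : (toPermHom D Γ).ker.Normal).eq_bot_or_eq_top with e1 | e1
    · exact mem_bot.1 (e1.le (MonoidHom.mem_ker.2 (Equiv.ext ht)))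
    · obtain ⟨d, hd, a, ha, hne⟩ := mv
      have := MonoidHom.mem_ker.1 (e1.ge (mem_top ⟨d, hd⟩))
      exact (hne (congrArg Subtype.val (Equiv.congr_fun this (⟨a, ha⟩ : Γ)))).elim
  have two : ∀ a b c d : Γ, a ≠ b → c ≠ d → ∃ g : H, g • a = c ∧ g • b = d := by
    intro a b c d hab hcd
    obtain ⟨g, hg, e1, e2⟩ := h.two a a.2 b b.2 c c.2 d d.2 (fun e => hab (Subtype.ext e))
      (fun e => hcd (Subtype.ext e))
    exact ⟨⟨g, hg⟩, Subtype.ext e1, Subtype.ext e2⟩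
  have prim : IsPreprimitive D Γ := cor_prim (inclusion hD) (fun _ _ => rfl)
    (by rw [inclusion_range]; exact (normal_subgroupOf_iff_le_normalizer hD).2 hn) two hs nab faith
  have : Nontrivial Γ := by
    obtain ⟨d, hd, a, ha, hne⟩ := mv
    exact ⟨⟨d • a, h.inv d (hD hd) a ha⟩, ⟨a, ha⟩, fun e => hne (congrArg Subtype.val e)⟩
  refine Cf.false (T := D) (Δ := Γ) ⟨hs, nab, faith, fun a c => ?_,
    fun a => IsPreprimitive.isCoatom_stabilizer_of_isPreprimitive D a, fun a c a' c' h2 h3 => ?_,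
    ⟨b, hb⟩, ⟨x, hx⟩, fun e1 => h1 (congrArg Subtype.val e1),
    fun t ht => Subtype.ext (e t t.2 (congrArg Subtype.val ht))⟩
  · obtain ⟨d, hd, e1⟩ := h.tr hD hn mv a.2 c.2
    exact ⟨⟨d, hd⟩, Subtype.ext e1⟩
  · obtain ⟨g, e1, e2⟩ := two a c a' c' h2 h3
    refine ⟨toPerm g, D.normalizerMonoidHom ⟨g, hn g.2⟩, e1, e2, fun t y => Subtype.ext ?_⟩
    change (g : G) • (t : G) • (y : Ω) = ((g : G) * t * (g : G)⁻¹) • (g : G) • (y : Ω)
    rw [mul_smul, mul_smul, inv_smul_smul]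

end CfsgLib.Dts
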