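import Cfsg.Agent.Lib.FsU.Defs

/-! Vocabulary for primitive groups with a doubly transitive suborbit (see plans/DTS2.md). -/

set_option autoImplicit false

namespace CfsgLib.Dts

open Subgroup CfsgLib.Tech CfsgLib.FsU MulAction

universe u v

section grp

variable {G : Type u} [Group G]

/-- the centralizer -/
abbrev CC (T : Subgroup G) : Subgroup G := centralizer (T : Set G)

theorem mem_CC {T : Subgroup G} {v : G} : v ∈ CC T ↔ ∀ t ∈ T, t * v = v * t := by
  simp [mem_centralizer_iff]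

/-- every normal subgroup of `D` is a direct factor with trivial centre -/
def SS (D : Subgroup G) : Prop :=
  ∀ M : Subgroup G, M ≤ D → D ≤ NN M →
    (∀ d ∈ D, ∃ m ∈ M, m⁻¹ * d ∈ CC M) ∧ ∀ m ∈ M, m ∈ CC M → m = 1

/-- `R` is a minimal normal subgroup of `D` -/
structure Mn (R D : Subgroup G) : Prop where
  le : R ≤ D
  nm : D ≤ NN R
  ne : R ≠ ⊥
  mn : ∀ M : Subgroup G, M ≤ R → D ≤ NN M → M = ⊥ ∨ M = R

end grp

section act

variable {G : Type u} {Ω : Type v} [Group G] [MulAction G Ω]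

/-- `H` is doubly transitive on the set `Δ` -/
structure Two (H : Subgroup G) (Δ : Set Ω) : Prop where
  inv : ∀ g ∈ H, ∀ a ∈ Δ, g • a ∈ Δ
  two : ∀ a ∈ Δ, ∀ b ∈ Δ, ∀ c ∈ Δ, ∀ d ∈ Δ, a ≠ b → c ≠ d → ∃ g ∈ H, g • a = c ∧ g • b = d

/-- `D` moves a point of `Δ` -/
def Mv (D : Subgroup G) (Δ : Set Ω) : Prop := ∃ d ∈ D, ∃ a ∈ Δ, d • a ≠ a

/-- the hypotheses of the theorem; `Δ` is the suborbit -/
structure Pr (G : Type u) {Ω : Type v} [Group G] [MulAction G Ω] (α β : Ω) (Δ : Set Ω) : Prop where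
  faith : ∀ g : G, (∀ a : Ω, g • a = a) → g = 1
  prim : IsPreprimitive G Ω
  ne : β ≠ α
  mem : β ∈ Δ
  mv : ∃ g : G, g • α = α ∧ g • β ≠ β
  two : Two (stabilizer G α) Δ

/-- a simple group `T`, normal in a doubly transitive group, with a point stabilizer that has a
non-trivial centralizer -/
structure Cf (T : Type u) (Δ : Type v) [Group T] [MulAction T Δ] : Prop where
  simple : IsSimpleGroup T
  nab : ¬ IsMulCommutative T
  faith : ∀ t : T, (∀ a : Δ, t • a = a) → t = 1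
  tr : ∀ a b : Δ, ∃ t : T, t • a = b
  mx : ∀ a : Δ, IsCoatom (stabilizer T a)
  two : ∀ a b c d : Δ, a ≠ b → c ≠ d → ∃ (σ : Δ ≃ Δ) (φ : T ≃* T), σ a = c ∧ σ b = d ∧
    ∀ (t : T) (e : Δ), σ (t • e) = φ t • σ e
  ex : ∃ (a : Δ) (x : T), x ≠ 1 ∧ ∀ t : T, t • a = a → t * x = x * t

/-- the centralizer of a point stabilizer -/
def Zc (G : Type u) {Ω : Type v} [Group G] [MulAction G Ω] (a : Ω) : Subgroup G :=
  CC (stabilizer G a)

/-- the stabilizer of two points -/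
def D0 (G : Type u) {Ω : Type v} [Group G] [MulAction G Ω] (a b : Ω) : Subgroup G :=
  stabilizer G a ⊓ stabilizer G b

theorem mem_Zc {a : Ω} {z : G} : z ∈ Zc G a ↔ ∀ t : G, t • a = a → t * z = z * t := mem_CC

theorem mem_D0 {a b : Ω} {d : G} : d ∈ D0 G a b ↔ d • a = a ∧ d • b = b := Iff.rfl

/-- the preimage of the Frobenius kernel on the fixed points of `D0 G a b` -/
structure Ker (r : ℕ) (a b : Ω) (K : Subgroup G) : Prop where
  le : D0 G a b ≤ K
  nm : K ≤ NN (D0 G a b)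
  nmK : NN (D0 G a b) ≤ NN K
  tr : ∃ u ∈ K, u • a = b
  free : ∀ u ∈ K, u • a = a → u ∈ D0 G a b
  pow : ∀ u ∈ K, u ^ r ∈ D0 G a b

end act

end CfsgLib.Dts
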