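import Cfsg.Agent.Lib.Dts.Prod
import Cfsg.Agent.S0721

set_option autoImplicit false
set_option linter.unusedSectionVars false

namespace CfsgLib.Dts

open Subgroup CfsgLib.Tech CfsgLib.FsU MulAction

universe u v

variable {G : Type u} {Ω : Type v} [Group G] [Finite G] [Finite Ω] [MulAction G Ω]
  {H D N M R : Subgroup G} {Δ : Set Ω} {α β : Ω}

theorem Mn.ona_normal (hN : Mn N ⊤) : N.Normal := normalizer_eq_top_iff.1 (top_le_iff.1 hN.nm)

theorem ona_stab (g : G) (a : Ω) : cj g (stabilizer G a) = stabilizer G (g • a) := by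
  ext x
  rw [mem_cj, mem_stabilizer_iff, mem_stabilizer_iff, mul_smul, mul_smul, inv_smul_eq_iff]

theorem Pr.tr (h : Pr G α β Δ) (hN : N.Normal) (h1 : N ≠ ⊥) (a b : Ω) : ∃ n ∈ N, n • a = b := by
  have := h.prim
  have h2 : IsPretransitive N Ω := IsQuasiPreprimitive.isPretransitive_of_normal (G := G) fun e =>
    h1 (eq_bot_iff.2 fun n hn => mem_bot.2 (h.faith n fun c =>
      mem_fixedPoints.1 (e.ge (Set.mem_univ c)) (⟨n, hn⟩ : N)))
  obtain ⟨n, hn⟩ := h2.exists_smul_eq a b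
  exact ⟨n, n.2, hn⟩

theorem Pr.semireg (h : Pr G α β Δ) (hN : N.Normal) (h1 : N ≠ ⊥) {c : G} (hc : c ∈ CC N) {a : Ω}
    (e : c • a = a) : c = 1 := by
  refine h.faith c fun b => ?_
  obtain ⟨n, hn, rfl⟩ := h.tr hN h1 a b
  rw [← mul_smul, ← mem_CC.1 hc n hn, mul_smul, e]

theorem Pr.moves (h : Pr G α β Δ) (hN : N.Normal) (h1 : N ⊓ stabilizer G α ≠ ⊥) :
    Mv (N ⊓ stabilizer G α) Δ := by
  by_contra hc
  have hle : N ⊓ stabilizer G α ≤ N ⊓ stabilizer G β := fun d hd => ⟨hd.1, by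
    by_contra e
    exact hc ⟨d, hd, β, h.mem, e⟩⟩
  have hN1 : N ≠ ⊥ := fun e => h1 (by rw [e, bot_inf_eq])
  obtain ⟨n, -, hn⟩ := h.tr hN hN1 α β
  have e1 : cj n (N ⊓ stabilizer G α) = N ⊓ stabilizer G β := by
    rw [cj_inf, cj_eq_of_normal, ona_stab, hn]
  have e2 : N ⊓ stabilizer G α = N ⊓ stabilizer G β :=
    Core.eq_of_le_of_card_le hle (by rw [← e1, card_cj])
  have hnn : ∀ a : Ω, stabilizer G a ≤ NN (N ⊓ stabilizer G a) := fun a g hg =>
    mem_normalizer_of_forall fun w hw => ⟨hN.conj_mem _ hw.1 g,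
      (stabilizer G a).mul_mem ((stabilizer G a).mul_mem hg hw.2) ((stabilizer G a).inv_mem hg)⟩
  have := h.prim
  have : Nontrivial Ω := ⟨β, α, h.ne⟩
  have hco := IsPreprimitive.isCoatom_stabilizer_of_isPreprimitive G α
  by_cases ht : NN (N ⊓ stabilizer G α) = ⊤
  · obtain ⟨d, hd, e⟩ := h.tr (normalizer_eq_top_iff.1 ht) h1 α β
    exact h.ne (e.symm.trans hd.2)
  · have e3 : stabilizer G β ≤ stabilizer G α := by
      rw [(hco.le_iff_eq ht).1 (hnn α) |>.symm, e2]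
      exact hnn β
    have e4 := Core.eq_of_le_of_card_le e3 (by rw [← hn, ← ona_stab, card_cj])
    obtain ⟨g, hg, hg'⟩ := h.mv
    exact hg' (e4.ge hg)

theorem Pr.caseA (h : Pr G α β Δ) (hN : Mn N ⊤) (ab : IsMulCommutative N) :
    (∀ M : Subgroup G, M.Normal → M ≠ ⊥ → N ≤ M) ∧ ∀ n ∈ N, ∀ a : Ω, n • a = a → n = 1 := by
  have hn := hN.ona_normal
  have h1 : N ≤ CC N := fun a ha => mem_CC.2 fun b hb =>
    Core.isMulCommutative_iff_forall.1 ab b hb a ha
  refine ⟨fun M hM hM1 => ?_, fun n hn' a e => h.semireg hn hN.ne (h1 hn') e⟩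
  rcases hN.mn (M ⊓ N) inf_le_right (normalizer_eq_top (M ⊓ N)).ge with e | e
  · refine (hM1 (eq_bot_iff.2 fun c hc => e.le ⟨hc, ?_⟩)).elim
    have h2 : c ∈ CC N := Core.le_centralizer_of_normal_of_disjoint e hc
    obtain ⟨n, hn', e1⟩ := h.tr hn hN.ne α (c • α)
    have h3 := h.semireg hn hN.ne (mul_mem (inv_mem (h1 hn')) h2) (a := α)
      (by rw [mul_smul, ← e1, inv_smul_smul])
    rw [inv_mul_eq_one] at h3
    exact h3 ▸ hn'
  · exact e.ge.trans inf_le_left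

theorem Pr.caseB (h : Pr G α β Δ) (hN : Mn N ⊤) (nab : ¬ IsMulCommutative N) : CC N = ⊥ := by
  by_contra hC
  have hn := hN.ona_normal
  have hCn : (CC N).Normal := inferInstance
  obtain ⟨T, _, m, hs, -, ⟨e⟩⟩ := Cfsg.Agent.S0721.result N hN.ne fun M hM hle =>
    hN.mn M hle (normalizer_eq_top M).ge
  have hT : ¬ IsMulCommutative T := fun hT => nab ⟨⟨fun a b => e.injective (by
    rw [map_mul, map_mul]
    funext i
    exact hT.1.1 _ _)⟩⟩
  have hZ := (ss_of_equiv hs hT e N le_rfl le_normalizer).2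
  have hreg : ∀ n ∈ N, n • α = α → n = 1 := fun n hn' e1 =>
    h.semireg hCn hC (mem_CC.2 fun c hc => (mem_CC.1 hc n hn').symm) e1
  have hex : ∀ n : N, ∃ c ∈ CC N, ((n : G) * c) • α = α := fun n => by
    obtain ⟨c, hc, e1⟩ := h.tr hCn hC α ((n : G)⁻¹ • α)
    exact ⟨c, hc, by rw [mul_smul, e1, smul_inv_smul]⟩
  choose c hc hc' using hex
  have huniq : ∀ (n : N), ∀ d ∈ CC N, ((n : G) * d) • α = α → d = c n := fun n d hd e1 => by
    have := h.semireg hn hN.ne (mul_mem (inv_mem (hc n)) hd) (a := α) (by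
      rw [mul_smul, inv_smul_eq_iff]
      apply MulAction.injective (n : G)
      simp only [← mul_smul]
      rw [e1, hc' n])
    exact (inv_mul_eq_one.1 this).symm
  have hsw : ∀ a b : N, (a : G) * c a * (b * c b) = (a * b : N) * (c a * c b) := fun a b => by
    rw [Subgroup.coe_mul, mul_assoc, ← mul_assoc (c a), ← mem_CC.1 (hc a) b b.2]
    group
  let ψ : N →* G := MonoidHom.mk' (fun n => (n : G) * c n) fun a b => by
    rw [hsw, huniq (a * b) _ (mul_mem (hc a) (hc b))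
      (by rw [← hsw, mul_smul, hc' b, hc' a])]
  have hψ : ∀ n, ψ n = (n : G) * c n := fun _ => rfl
  have hinj : Function.Injective ψ := (injective_iff_map_eq_one _).2 fun n e1 =>
    Subtype.ext (hZ n n.2 (by
      rw [hψ] at e1
      rw [eq_inv_of_mul_eq_one_left e1]
      exact inv_mem (hc n)))
  have hfix : ∀ a b : N, ψ a • (b : G) • α = (b : G) • α ↔ a * b = b * a := fun a b => by
    have e1 : ψ a • (b : G) • α = ((a : G) * b * (a : G)⁻¹) • α := by
      conv_rhs => rw [← hc' a]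
      rw [hψ, ← mul_smul, ← mul_smul, mul_assoc, ← mem_CC.1 (hc a) b b.2]
      congr 1
      group
    rw [e1]
    constructor
    · intro e2
      have := hreg ((b : G)⁻¹ * ((a : G) * b * (a : G)⁻¹))
        (mul_mem (inv_mem b.2) (hn.conj_mem _ b.2 _)) (by rw [mul_smul, e2, inv_smul_smul])
      rw [inv_mul_eq_one, eq_mul_inv_iff_mul_eq] at this
      exact Subtype.ext this.symm
    · intro e2
      rw [show (a : G) * b = b * a from congrArg Subtype.val e2, mul_inv_cancel_right]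
  refine h.two.core2 (D := ψ.range) ?_ ?_
    (ss_of_equiv hs hT ((MonoidHom.ofInjective hinj).symm.trans e)) ?_ fun a _ => ?_
  · rintro _ ⟨n, rfl⟩
    exact hc' n
  · intro g hg
    refine mem_normalizer_of_forall ?_
    rintro _ ⟨n, rfl⟩
    refine ⟨⟨g * n * g⁻¹, hn.conj_mem _ n.2 g⟩, ?_⟩
    have e1 : g * ψ n * g⁻¹ = g * n * g⁻¹ * (g * c n * g⁻¹) := by rw [hψ]; group
    rw [hψ, ← huniq _ _ (hCn.conj_mem _ (hc n) g) (by
      rw [← e1, mul_smul, mul_smul, mem_stabilizer_iff.1 (inv_mem hg), hψ, hc' n]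
      exact hg), e1]
  · obtain ⟨b, hb, e1⟩ := h.tr hn hN.ne α β
    by_contra hm
    have h1 : b = 1 := hZ b hb (mem_CC.2 fun a ha => by
      have := (hfix ⟨a, ha⟩ ⟨b, hb⟩).1 (by
        by_contra e2
        exact hm ⟨_, ⟨⟨a, ha⟩, rfl⟩, β, h.mem, by rwa [← e1]⟩)
      exact congrArg Subtype.val this)
    exact h.ne (by rw [← e1, h1, one_smul])
  · obtain ⟨b, hb, rfl⟩ := h.tr hn hN.ne α a
    refine ⟨{ψ ⟨b, hb⟩}, ?_, ?_⟩
    · rintro _ rfl
      exact ⟨_, rfl⟩
    · rintro _ ⟨a, rfl⟩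
      simp only [Set.mem_singleton_iff, forall_eq]
      rw [← map_mul, ← map_mul, hinj.eq_iff]
      exact hfix a ⟨b, hb⟩

end CfsgLib.Dts
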