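import Cfsg.Agent.Lib.Dts.OnsA
import Cfsg.Agent.S0723

set_option autoImplicit false
set_option linter.unusedSectionVars false

namespace CfsgLib.Dts

open Subgroup CfsgLib.Tech CfsgLib.FsU MulAction

universe u v

variable {G : Type u} {Ω : Type v} [Group G] [Finite G] [Finite Ω] [MulAction G Ω]
  {H D N M R : Subgroup G} {Δ : Set Ω} {α β : Ω}

theorem Pr.ons (h : Pr G α β Δ) (hN : Mn N ⊤) (nab : ¬ IsMulCommutative N) (hc : CC N = ⊥) :
    ∃ (T : Type) (_ : Group T) (m : ℕ) (e : N ≃* (Fin m → T)), IsSimpleGroup T ∧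
      ¬ IsMulCommutative T ∧
      ((∃ K : Fin m → Subgroup T, ∀ n : N, (n : G) • α = α ↔ ∀ i, e n i ∈ K i) ∨
        ∃ c : Fin m → Fin m, ∀ n : N, (n : G) • α = α ↔ ∀ i j, c i = c j → e n i = e n j) := by
  have hNn : N.Normal := normalizer_eq_top_iff.1 (top_le_iff.1 hN.nm)
  have mn : ∀ M : Subgroup G, M.Normal → M ≤ N → M = ⊥ ∨ M = N := fun M hM le =>
    hN.mn M le (normalizer_eq_top_iff.2 hM).ge
  let e := MonoidHom.ofInjective (f := MulAction.toPermHom G Ω)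
    ((injective_iff_map_eq_one _).2 fun x k => h.faith x fun c => congrFun (congrArg (⇑) k) c)
  have := hNn.map e.toMonoidHom e.surjective
  let e' := N.equivMapOfInjective e.toMonoidHom e.injective
  have := h.prim
  have : IsPreprimitive (MulAction.toPermHom G Ω).range Ω :=
    IsPreprimitive.of_surjective (M := G) (α := Ω) (φ := e)
      (f := ⟨id, fun _ _ => rfl⟩) Function.surjective_id
  have back : ∀ P : Subgroup (MulAction.toPermHom G Ω).range,
      (P.comap e.toMonoidHom).map e.toMonoidHom = P := fun P =>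
    map_comap_eq_self_of_surjective e.surjective P
  obtain ⟨T, _, m, f, hs, hT, -, hh⟩ := Cfsg.Agent.S0723.result (MulAction.toPermHom G Ω).range
    (N.map e.toMonoidHom) (fun k => hN.ne ((map_eq_bot_iff_of_injective _ e.injective).1 k))
    (fun P hP le => by
      have l : P.comap e.toMonoidHom ≤ N :=
        (comap_mono le).trans (comap_map_eq_self_of_injective e.injective N).le
      rcases mn _ (hP.comap _) l with k | k
      · exact .inl (by rw [← back P, k, Subgroup.map_bot])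
      · exact .inr (by rw [← back P, k]))
    (fun L hL L1 mL => by
      have hL' := hL.comap e.toMonoidHom
      rcases mn (L.comap e.toMonoidHom ⊓ N) inferInstance inf_le_right with k | k
      · refine absurd ?_ L1
        rw [← back L, (eq_bot_iff (a := L.comap e.toMonoidHom)).2 (hc ▸ fun x hx => mem_CC.2 fun t ht =>
          (commute_of_normal_of_disjoint _ N hL' hNn (disjoint_iff.2 k) x t hx ht).symm), Subgroup.map_bot]
      · refine ((mL (N.map e.toMonoidHom) inferInstance ?_).resolve_left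
          fun k => hN.ne ((map_eq_bot_iff_of_injective _ e.injective).1 k)).symm
        exact map_le_iff_le_comap.2 (k.ge.trans inf_le_left))
    (fun k => nab ⟨⟨fun x y => e'.injective (by rw [map_mul, map_mul, k.is_comm.comm])⟩⟩) α
  refine ⟨T, inferInstance, m, e'.trans f, hs, hT, ?_⟩
  rcases hh with ⟨K, -, hK⟩ | ⟨k, c, -, -, hK⟩
  · exact .inl ⟨K, fun n => hK (e' n)⟩
  · exact .inr ⟨c, fun n => hK (e' n)⟩

theorem Pr.case_prod (h : Pr G α β Δ) (hN : Mn N ⊤) (ss : SS N)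
    (sp : ∀ M : Subgroup G, M ≤ N → N ≤ NN M → ∀ s ∈ N, s ∈ stabilizer G α →
      ∃ m ∈ M, m ∈ stabilizer G α ∧ m⁻¹ * s ∈ CC M)
    (h1 : N ⊓ stabilizer G α ≠ ⊥) : IsSimpleGroup N := by
  have hNn : N.Normal := normalizer_eq_top_iff.1 (top_le_iff.1 hN.nm)
  have nn : ∀ g : G, g ∈ NN N := fun g => hN.nm (mem_top g)
  obtain ⟨M, hM, mv⟩ := exists_mn ss sp (h.moves hNn h1)
  have hH : ∀ g ∈ stabilizer G α, cj g (stabilizer G α) = stabilizer G α := fun g hg =>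
    cj_eq_of_mem hg
  have key := h.two.prod (D := N ⊓ stabilizer G α) inf_le_right
    (fun g hg => mem_normalizer_iff_cj.2 (by rw [cj_inf, cj_eq_of_normal, hH g hg]))
    (F := {R | ∃ M, Mn M N ∧ R = M ⊓ stabilizer G α}) (R := M ⊓ stabilizer G α)
    (by
      rintro _ ⟨M, hM, rfl⟩
      exact ⟨inf_le_inf_right _ hM.le, fun g hg => mem_normalizer_iff_cj.2 (by
        rw [cj_inf, mem_normalizer_iff_cj.1 (hM.nm hg.1), hH g hg.2])⟩)
    (by
      rintro _ ⟨M, hM, rfl⟩ g hg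
      exact ⟨_, hM.cj (nn g), by rw [cj_inf, hH g hg]⟩)
    (by
      rintro _ ⟨M₁, k₁, rfl⟩ _ ⟨M₂, k₂, rfl⟩ _ ⟨M₃, k₃, rfl⟩ n₂ n₃ r₁ hr₁ r₂ hr₂ r₃ hr₃ a - e
      obtain ⟨n, hn, rfl⟩ := h.tr hNn hN.ne α a
      have c₂ := k₁.le_CC k₂ fun k => n₂ (by rw [k])
      have c₃ := k₁.le_CC k₃ fun k => n₃ (by rw [k])
      obtain ⟨m, hm, ma, mc⟩ := sp M₁ k₁.le k₁.nm (n⁻¹ * (r₃⁻¹ * r₁ * r₂) * n)
        (hNn.conj_mem' _ (mul_mem (mul_mem (inv_mem (k₃.le hr₃.1)) (k₁.le hr₁.1)) (k₂.le hr₂.1)) n)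
        (by rw [mem_stabilizer_iff, mul_smul, mul_smul, e, inv_smul_smul])
      have a₂ : n⁻¹ * r₂ * n ∈ CC M₁ := c₂ (conj_mem_of_mem_normalizer' (k₂.nm hn) hr₂.1)
      have a₃ : n⁻¹ * r₃ * n ∈ CC M₁ := c₃ (conj_mem_of_mem_normalizer' (k₃.nm hn) hr₃.1)
      have a₁ : n⁻¹ * r₁ * n ∈ M₁ := conj_mem_of_mem_normalizer' (k₁.nm hn) hr₁.1
      have e₃ : r₃⁻¹ * r₁ = r₁ * r₃⁻¹ := (mem_CC.1 (inv_mem (c₃ hr₃.1)) r₁ hr₁.1).symm
      have := (ss M₁ k₁.le k₁.nm).2 _ (mul_mem (inv_mem hm) a₁) (by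
        have := mul_mem (mul_mem mc (inv_mem a₂)) a₃
        rw [e₃] at this
        simpa only [mul_assoc, mul_inv_rev, inv_inv, mul_inv_cancel_left, inv_mul_cancel_left,
          inv_mul_cancel, mul_one] using this)
      rw [inv_mul_eq_one] at this
      rw [this, mem_stabilizer_iff, mul_smul, mul_smul, inv_smul_eq_iff] at ma
      exact ma)
    ⟨M, hM, rfl⟩ mv
  obtain ⟨r, hr, a, -, ra⟩ := mv
  have hn : ∀ g : G, g ∈ NN M := fun g => by
    obtain ⟨n, hn, e⟩ := h.tr hNn hN.ne (g • α) α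
    have k : n * g ∈ stabilizer G α := by rw [mem_stabilizer_iff, mul_smul, e]
    have : n * g ∈ NN M := mem_normalizer_iff_cj.2 <| by_contra fun ne => ra (by
      have c := hM.le_CC (hM.cj (nn (n * g))) (Ne.symm ne)
      have := (ss M hM.le hM.nm).2 _ (conj_mem_of_mem_normalizer (key k) hr).1
        (c (conj_mem_cj.2 hr.1))
      rw [conj_eq_one_iff.1 this, one_smul])
    simpa using mul_mem (inv_mem (hM.nm hn)) this
  obtain rfl := (hN.mn M hM.le fun g _ => hn g).resolve_left hM.ne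
  exact (hM.simple ss).1

theorem split_of_prod {T : Type} [Group T] (hs : IsSimpleGroup T) (nab : ¬ IsMulCommutative T)
    {m : ℕ} (e : N ≃* (Fin m → T)) {K : Fin m → Subgroup T}
    (hK : ∀ n : N, (n : G) • α = α ↔ ∀ i, e n i ∈ K i) (hM : M ≤ N) (hn : N ≤ NN M) {s : G}
    (hs' : s ∈ N) (ha : s ∈ stabilizer G α) :
    ∃ m ∈ M, m ∈ stabilizer G α ∧ m⁻¹ * s ∈ CC M := by
  classical
  have hMn : (M.subgroupOf N).Normal := normal_subgroupOf_of_le_normalizer hn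
  have := hMn.map e.toMonoidHom e.surjective
  obtain ⟨F, hF⟩ := Cfsg.Agent.S5913.result nab m ((M.subgroupOf N).map e.toMonoidHom)
  have hF' : ∀ n : N, (n : G) ∈ M ↔ ∀ i, i ∉ F → e n i = 1 := fun n => by
    rw [← hF]
    exact (mem_map_iff_mem (f := e.toMonoidHom) e.injective (K := M.subgroupOf N) (x := n)).symm
  let w : N := e.symm fun i => if i ∈ F then e ⟨s, hs'⟩ i else 1
  have hw : ∀ i, e w i = if i ∈ F then e ⟨s, hs'⟩ i else 1 := fun i => by simp [w]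
  refine ⟨w, (hF' w).2 fun i hi => by rw [hw, if_neg hi], (hK w).2 fun i => ?_, mem_CC.2 fun t ht => ?_⟩
  · rw [hw]
    split_ifs
    · exact (hK ⟨s, hs'⟩).1 ha i
    · exact one_mem _
  · have : (⟨t, hM ht⟩ : N) * (w⁻¹ * ⟨s, hs'⟩) = w⁻¹ * ⟨s, hs'⟩ * ⟨t, hM ht⟩ := e.injective (by
      ext i
      simp only [map_mul, map_inv, Pi.mul_apply, Pi.inv_apply, hw]
      split_ifs with hi
      · simp
      · simp [(hF' ⟨t, hM ht⟩).1 ht i hi])
    exact congrArg Subtype.val this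

theorem Pr.case_diag (h : Pr G α β Δ) (hN : N.Normal) {T : Type} [Group T] (hs : IsSimpleGroup T)
    (nab : ¬ IsMulCommutative T) {m : ℕ} (e : N ≃* (Fin m → T)) {c : Fin m → Fin m}
    (hc : ∀ n : N, (n : G) • α = α ↔ ∀ i j, c i = c j → e n i = e n j) :
    N ⊓ stabilizer G α = ⊥ := by
  classical
  by_contra h1
  have N1 : N ≠ ⊥ := fun k => h1 (by rw [k, bot_inf_eq])
  let f : ({j // j ∈ Set.range c} → T) →* N :=
    e.symm.toMonoidHom.comp (MonoidHom.pi fun i => Pi.evalMonoidHom _ ⟨c i, Set.mem_range_self i⟩)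
  have hf : ∀ x i, e (f x) i = x ⟨c i, Set.mem_range_self i⟩ := fun x i =>
    congrFun (e.apply_symm_apply _) i
  have fi : Function.Injective (N.subtype.comp f) := (injective_iff_map_eq_one _).2 fun x hx => by
    ext ⟨_, i, rfl⟩
    refine (hf x i).symm.trans ?_
    rw [show f x = 1 from Subtype.ext hx, map_one]
    rfl
  have fr : (N.subtype.comp f).range = N ⊓ stabilizer G α := by
    refine le_antisymm ?_ fun d hd => ⟨fun j => e ⟨d, hd.1⟩ j.2.choose, ?_⟩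
    · rintro _ ⟨x, rfl⟩
      exact ⟨(f x).2, (hc (f x)).2 fun i j k => by simp only [hf, k]⟩
    · refine congrArg Subtype.val (e.injective (a₂ := ⟨d, hd.1⟩) (funext fun i => ?_))
      rw [hf]
      exact (hc ⟨d, hd.1⟩).1 hd.2 _ _ (Exists.choose_spec (⟨i, rfl⟩ : c i ∈ Set.range c))
  refine h.two.core2 (D := N ⊓ stabilizer G α) inf_le_right
    (fun g hg => mem_normalizer_iff_cj.2 (by rw [cj_inf, cj_eq_of_normal, cj_eq_of_mem hg]))
    (fr ▸ ss_of_equiv hs nab (MonoidHom.ofInjective fi).symm) (h.moves hN h1) fun a _ => ?_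
  obtain ⟨n, hn, rfl⟩ := h.tr hN N1 α a
  let s : Fin m → Fin m → N := fun i j =>
    e.symm fun k => if c k = c i then e ⟨n, hn⟩ i * (e ⟨n, hn⟩ j)⁻¹ else 1
  have hs : ∀ i j k, e (s i j) k = if c k = c i then e ⟨n, hn⟩ i * (e ⟨n, hn⟩ j)⁻¹ else 1 :=
    fun i j k => by simp [s]
  refine ⟨{x | ∃ i j, c i = c j ∧ x = s i j}, ?_, fun d hd => ?_⟩
  · rintro _ ⟨i, j, -, rfl⟩
    exact ⟨(s i j).2, (hc _).2 fun k l ee => by rw [hs, hs, ee]⟩
  have hd' := (hc ⟨d, hd.1⟩).1 hd.2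
  have k1 : d • n • α = n • α ↔ (((⟨n, hn⟩ : N)⁻¹ * ⟨d, hd.1⟩ * ⟨n, hn⟩ : N) : G) • α = α := by
    change _ ↔ (n⁻¹ * d * n) • α = α
    rw [mul_smul, mul_smul, inv_smul_eq_iff]
  rw [k1, hc]
  simp only [map_mul, map_inv, Pi.mul_apply, Pi.inv_apply]
  constructor
  · rintro k _ ⟨i, j, ij, rfl⟩
    refine congrArg Subtype.val (e.injective (a₁ := ⟨d, hd.1⟩ * s i j) (a₂ := s i j * ⟨d, hd.1⟩)
      (funext fun l => ?_))
    simp only [map_mul, Pi.mul_apply, hs]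
    split_ifs with hl
    · have := k i j ij
      rw [← hd' i j ij] at this
      rw [hd' l i hl]
      calc _ = e ⟨n, hn⟩ i * ((e ⟨n, hn⟩ i)⁻¹ * e ⟨d, hd.1⟩ i * e ⟨n, hn⟩ i) * (e ⟨n, hn⟩ j)⁻¹ := by
            group
        _ = _ := by rw [this]; group
    · simp
  · intro k i j ij
    have := congrFun (congrArg e (Subtype.ext (k _ ⟨i, j, ij, rfl⟩) :
      (⟨d, hd.1⟩ * s i j : N) = s i j * ⟨d, hd.1⟩)) i
    simp only [map_mul, Pi.mul_apply, hs, if_true] at this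
    rw [← hd' i j ij]
    calc _ = (e ⟨n, hn⟩ i)⁻¹ * (e ⟨d, hd.1⟩ i * (e ⟨n, hn⟩ i * (e ⟨n, hn⟩ j)⁻¹)) * e ⟨n, hn⟩ j := by
          group
      _ = _ := by rw [this]; group

theorem Pr.caseC (h : Pr G α β Δ) (hN : Mn N ⊤) (nab : ¬ IsMulCommutative N) :
    IsSimpleGroup N ∨ N ⊓ stabilizer G α = ⊥ := by
  obtain ⟨T, _, m, e, hs, hT, ⟨K, hK⟩ | ⟨c, hc⟩⟩ := h.ons hN nab (h.caseB hN nab)
  · by_cases h1 : N ⊓ stabilizer G α = ⊥
    · exact .inr h1
    · exact .inl (h.case_prod hN (ss_of_equiv hs hT e)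
        (fun M hM hn s hs' ha => split_of_prod hs hT e hK hM hn hs' ha) h1)
  · exact .inr (h.case_diag (normalizer_eq_top_iff.1 (top_le_iff.1 hN.nm)) hs hT e hc)

end CfsgLib.Dts
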