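import Cfsg.Agent.Lib.Dts.Core
import Cfsg.Agent.S5913

set_option autoImplicit false
set_option linter.unusedSectionVars false

namespace CfsgLib.Dts

open Subgroup CfsgLib.Tech CfsgLib.FsU MulAction

universe u v

variable {G : Type u} {Ω : Type v} [Group G] [Finite G] [Finite Ω] [MulAction G Ω]
  {H D N M R : Subgroup G} {Δ : Set Ω} {α β : Ω}

theorem prd_cc {g c : G} (hg : g ∈ NN M) (hc : c ∈ CC M) : g * c * g⁻¹ ∈ CC M := by
  have := conj_mem_cj (g := g) |>.2 hc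
  rwa [cj_centralizer, mem_normalizer_iff_cj.1 hg] at this

theorem prd_nm {g : G} (hg : g ∈ NN D) (h : D ≤ NN M) : D ≤ NN (cj g M) := by
  rw [NN, ← cj_normalizer, ← mem_normalizer_iff_cj.1 hg]
  exact cj_mono g h

theorem ss_of_equiv {ι T : Type} [Finite ι] [Group T] (hs : IsSimpleGroup T)
    (nab : ¬ IsMulCommutative T) (e : D ≃* (ι → T)) : SS D := by
  classical
  intro M hM hn
  obtain ⟨n, ⟨f⟩⟩ := Finite.exists_equiv_fin ι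
  replace e := e.trans (MulEquiv.arrowCongr f (MulEquiv.refl T))
  have : (M.subgroupOf D).Normal := ⟨fun x hx g => conj_mem_of_mem_normalizer (H := M) (hn g.2) hx⟩
  have := this.map e.toMonoidHom e.surjective
  obtain ⟨S, hS⟩ := Cfsg.Agent.S5913.result nab n ((M.subgroupOf D).map e.toMonoidHom)
  have k : ∀ x : D, (x : G) ∈ M ↔ ∀ i, i ∉ S → e x i = 1 := fun x => by
    rw [← hS]; exact (mem_map_iff_mem (f := e.toMonoidHom) (K := M.subgroupOf D) e.injective).symm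
  refine ⟨fun d hd => ⟨e.symm fun i => if i ∈ S then e ⟨d, hd⟩ i else 1, (k _).2 fun i hi => by simp [hi],
    mem_CC.2 fun t ht => ?_⟩, fun m hm hc => ?_⟩
  · refine congrArg Subtype.val (e.injective (a₁ := ⟨t, hM ht⟩ * ((e.symm _)⁻¹ * ⟨d, hd⟩))
      (a₂ := (e.symm _)⁻¹ * ⟨d, hd⟩ * ⟨t, hM ht⟩) (funext fun i => ?_))
    by_cases hi : i ∈ S
    · simp [hi]
    · simp [(k ⟨t, hM ht⟩).1 ht i hi]
  · refine congrArg Subtype.val (e.injective (a₁ := ⟨m, hM hm⟩) (a₂ := 1) (funext fun i => ?_))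
    rw [map_one, Pi.one_apply]
    by_cases hi : i ∈ S
    · rcases (inferInstance : (center T).Normal).eq_bot_or_eq_top with c | c
      · refine mem_bot.1 (c ▸ mem_center_iff.2 fun t => ?_)
        have := mem_CC.1 hc _ ((k (e.symm (Pi.mulSingle i t))).2 fun j hj => by
          rw [e.apply_symm_apply, Pi.mulSingle_eq_of_ne (by rintro rfl; exact hj hi)])
        have := congrFun (congrArg e (Subtype.ext this : e.symm (Pi.mulSingle i t) * ⟨m, hM hm⟩ = ⟨m, hM hm⟩ * _)) i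
        simpa using this
      · exact absurd ⟨⟨fun a b => mem_center_iff.1 (c ▸ mem_top b) a⟩⟩ nab
    · exact (k _).1 hm i hi

theorem Mn.cj (h : Mn R D) {g : G} (hg : g ∈ NN D) : Mn (cj g R) D := by
  refine ⟨mem_normalizer_iff_cj.1 hg ▸ cj_mono g h.le, prd_nm hg h.nm, fun e => h.ne (cj_eq_bot_iff.1 e),
    fun M hM hn => (h.mn (Tech.cj g⁻¹ M) (cj_inv_cj g R ▸ cj_mono g⁻¹ hM) (prd_nm (inv_mem hg) hn)).imp
      cj_eq_bot_iff.1 fun e => ?_⟩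
  rw [← e, cj_cj_inv]

theorem Mn.le_CC (h : Mn R D) (h' : Mn M D) (hne : R ≠ M) : M ≤ CC R := by
  have k : R ⊓ M = ⊥ := (h.mn _ inf_le_left fun d hd => mem_normalizer_of_forall fun x hx =>
    ⟨conj_mem_of_mem_normalizer (h.nm hd) hx.1, conj_mem_of_mem_normalizer (h'.nm hd) hx.2⟩).resolve_right
    fun e => (h'.mn R (inf_eq_left.1 e) h.nm).elim h.ne hne
  refine fun m hm => mem_CC.2 fun t ht => ?_
  have : t * m * t⁻¹ * m⁻¹ ∈ R ⊓ M := mem_inf.2 ⟨by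
    simpa only [mul_assoc] using mul_mem ht (conj_mem_of_mem_normalizer (h.nm (h'.le hm)) (inv_mem ht)),
    mul_mem (conj_mem_of_mem_normalizer (h'.nm (h.le ht)) hm) (inv_mem hm)⟩
  rwa [k, mem_bot, mul_inv_eq_one, mul_inv_eq_iff_eq_mul] at this

theorem Mn.simple (h : Mn R D) (hD : SS D) : IsSimpleGroup R ∧ ¬ IsMulCommutative R := by
  obtain ⟨h1, h2⟩ := hD R h.le h.nm
  have := (nontrivial_iff_ne_bot R).2 h.ne
  refine ⟨⟨fun K hK => (h.mn (K.map R.subtype) (map_subtype_le K) fun d hd => ?_).imp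
    (map_eq_bot_iff_of_injective K R.subtype_injective).1 fun e => ?_⟩, fun c => h.ne (eq_bot_iff.2 fun m hm =>
      h2 m hm (mem_CC.2 fun t ht => congrArg Subtype.val (c.1.1 ⟨t, ht⟩ ⟨m, hm⟩)))⟩
  · obtain ⟨m, hm, c⟩ := h1 d hd
    refine mem_normalizer_of_forall ?_
    rintro _ ⟨x, hx, rfl⟩
    refine ⟨_, hK.conj_mem x hx ⟨m, hm⟩, ?_⟩
    change m * x * m⁻¹ = d * x * d⁻¹
    calc _ = m * (x * (m⁻¹ * d)) * d⁻¹ := by group
      _ = _ := by rw [mem_CC.1 c x x.2]; group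
  · exact map_injective R.subtype_injective (by rw [e, ← MonoidHom.range_eq_map, range_subtype])

/-- a minimal normal subgroup whose intersection with `H` moves a point -/
theorem exists_mn (hD : SS D)
    (sp : ∀ M : Subgroup G, M ≤ D → D ≤ NN M → ∀ s ∈ D, s ∈ H → ∃ m ∈ M, m ∈ H ∧ m⁻¹ * s ∈ CC M)
    (mv : Mv (D ⊓ H) Δ) : ∃ R : Subgroup G, Mn R D ∧ Mv (R ⊓ H) Δ := by
  obtain ⟨M, ⟨h1, h2, s, hs, a, ha, h3⟩, mn⟩ := exists_minimal_of_wellFoundedLT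
    (fun M : Subgroup G => M ≤ D ∧ D ≤ NN M ∧ Mv (M ⊓ H) Δ) ⟨D, le_rfl, le_normalizer, mv⟩
  refine ⟨M, ⟨h1, h2, fun e => h3 (by rw [show s = 1 from e.le hs.1, one_smul]), fun K hK hn => ?_⟩, s, hs, a, ha, h3⟩
  obtain ⟨m, hm, mH, c⟩ := sp K (hK.trans h1) hn s (h1 hs.1) hs.2
  by_cases e : m • a = a
  · refine Or.inl (eq_bot_iff.2 fun x hx => (hD K (hK.trans h1) hn).2 x hx ((mn (y := M ⊓ CC K) ⟨inf_le_left.trans h1,
      fun d hd => mem_normalizer_of_forall fun x hx => ⟨conj_mem_of_mem_normalizer (h2 hd) hx.1, prd_cc (hn hd) hx.2⟩,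
      m⁻¹ * s, ⟨⟨M.mul_mem (inv_mem (hK hm)) hs.1, c⟩, H.mul_mem (inv_mem mH) hs.2⟩, a, ha, fun f => h3 ?_⟩
      inf_le_left (hK hx)).2))
    rwa [mul_smul, inv_smul_eq_iff, e] at f
  · exact Or.inr (le_antisymm hK (mn ⟨hK.trans h1, hn, m, ⟨hm, mH⟩, a, ha, e⟩ hK))

/-- the product lemma -/
theorem Two.prod (h : Two H Δ) (hD : D ≤ H) (hn : H ≤ NN D) {F : Set (Subgroup G)}
    (hle : ∀ R ∈ F, R ≤ D ∧ D ≤ NN R) (hc : ∀ R ∈ F, ∀ g ∈ H, cj g R ∈ F)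
    (dec : ∀ R₁ ∈ F, ∀ R₂ ∈ F, ∀ R₃ ∈ F, R₁ ≠ R₂ → R₁ ≠ R₃ → ∀ r₁ ∈ R₁, ∀ r₂ ∈ R₂, ∀ r₃ ∈ R₃,
      ∀ a ∈ Δ, (r₃⁻¹ * r₁ * r₂) • a = a → r₁ • a = a)
    (hR : R ∈ F) (mv : Mv R Δ) : H ≤ NN R := by
  intro g hg
  by_contra hne
  replace hne : R ≠ cj g R := fun e => hne (mem_normalizer_iff_cj.2 e.symm)
  have hR' := hc R hR g hg
  obtain ⟨r₁, h₁, a, ha, m₁⟩ := mv
  obtain ⟨d, hd, e⟩ := h.tr hD hn ⟨r₁, (hle R hR).1 h₁, a, ha, m₁⟩ (h.inv g hg a ha) ha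
  have h₂ := conj_mem_of_mem_normalizer ((hle _ hR').2 hd) (conj_mem_cj.2 h₁)
  have m₂ : (d * (g * r₁ * g⁻¹) * d⁻¹) • a ≠ a := fun f => m₁ (by
    have : (d * (g * r₁ * g⁻¹) * d⁻¹) • d • g • a = d • g • a := by rwa [e]
    simpa [mul_smul] using this)
  generalize d * (g * r₁ * g⁻¹) * d⁻¹ = r₂ at h₂ m₂
  have k : ∀ R₃ ∈ F, ∀ r₃ ∈ R₃, (r₃⁻¹ * r₁ * r₂) • a ≠ a := fun R₃ m r₃ h₃ f => by
    by_cases e : R = R₃
    · subst e
      exact m₂ (dec _ hR' _ hR _ hR hne.symm hne.symm r₂ h₂ 1 (one_mem _) (r₁⁻¹ * r₃) (mul_mem (inv_mem h₁) h₃) a ha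
        (by simpa using f))
    · exact m₁ (dec _ hR _ hR' _ m hne e r₁ h₁ r₂ h₂ r₃ h₃ a ha f)
  have i₁ := hD ((hle R hR).1 h₁)
  obtain ⟨u, hu, e₁, e₂⟩ := h.two a ha _ (h.inv _ i₁ a ha) a ha _
    (h.inv _ (mul_mem i₁ (hD ((hle _ hR').1 h₂))) a ha) m₁.symm (by simpa using (k R hR 1 (one_mem _)).symm)
  refine k _ (hc R hR u hu) _ (conj_mem_cj.2 h₁) ?_
  rw [mul_assoc, mul_smul, ← e₂, inv_smul_eq_iff, mul_smul, mul_smul, inv_smul_eq_iff.2 e₁.symm]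

theorem Two.core2 (h : Two H Δ) (hD : D ≤ H) (hn : H ≤ NN D) (ss : SS D) (mv : Mv D Δ)
    (e : ∀ a ∈ Δ, ∃ S : Set G, (∀ s ∈ S, s ∈ D) ∧ ∀ d ∈ D, d • a = a ↔ ∀ s ∈ S, d * s = s * d) :
    False := by
  obtain ⟨R, hR, r, ⟨hr, -⟩, a, ha, m⟩ := exists_mn (H := H) ss (fun M h1 h2 s hs _ =>
    let ⟨m, hm, c⟩ := (ss M h1 h2).1 s hs; ⟨m, hm, hD (h1 hm), c⟩) (by rwa [inf_eq_left.2 hD])
  have n := h.prod hD hn (F := {R | Mn R D}) (fun R hR => ⟨hR.le, hR.nm⟩) (fun R hR g hg => hR.cj (hn hg))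
    (fun R₁ m₁ R₂ m₂ R₃ m₃ n₂ n₃ r₁ h₁ r₂ h₂ r₃ h₃ a ha f => by
      obtain ⟨S, hS, k⟩ := e a ha
      refine (k r₁ (m₁.le h₁)).2 fun s hs => ?_
      have c := (k _ (mul_mem (mul_mem (inv_mem (m₃.le h₃)) (m₁.le h₁)) (m₂.le h₂))).1 f s hs
      have c₃ := inv_mem (Mn.le_CC m₁ m₃ n₃ h₃)
      have y := mul_mem c₃ (Mn.le_CC m₁ m₂ n₂ h₂)
      rw [← mem_CC.1 c₃ r₁ h₁, mul_assoc r₁] at c
      have sn := m₁.nm (hS s hs)
      have := (ss R₁ m₁.le m₁.nm).2 _ (mul_mem (inv_mem h₁) (conj_mem_of_mem_normalizer sn h₁)) (by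
        convert mul_mem y (inv_mem (prd_cc sn y)) using 1
        rw [eq_mul_inv_iff_mul_eq, mul_assoc, conj_mul, ← c]; group)
      rw [inv_mul_eq_one, eq_mul_inv_iff_mul_eq] at this
      exact this) hR ⟨r, hr, a, ha, m⟩
  obtain ⟨S, hS, k⟩ := e a ha
  obtain ⟨s, hs, c⟩ : ∃ s ∈ S, r * s ≠ s * r := by
    by_contra! f
    exact m ((k r (hR.le hr)).2 f)
  obtain ⟨x, hx, c'⟩ := (ss R hR.le hR.nm).1 s (hS s hs)
  refine h.core (hR.le.trans hD) n (hR.simple ss).1 (hR.simple ss).2 ⟨r, hr, a, ha, m⟩ ha hx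
    (fun f => c (by simpa [f] using mem_CC.1 c' r hr)) fun t ht f => ?_
  have k1 : Commute t s := (k t (hR.le ht)).1 f s hs
  have k2 : Commute t (x⁻¹ * s) := mem_CC.1 c' t ht
  simpa using (k1.mul_right k2.inv_right).eq

end CfsgLib.Dts
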